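import Groth.Agent.L13.InvHilb.Mono

/-! The combinatorics of monomials of equal weight. -/

set_option autoImplicit false

noncomputable section

universe u

namespace Groth.L13.InvHilb

open MvPolynomial W4c2invhilbsl2

variable {p q m : ℕ}

section Rel
variable {R : Type*} [CommRing R] {a b c : R}

theorem rel_same (hpq : p < q) (h : a ^ (q - p) = b * c) {d0 d1 d2 e0 e1 e2 : ℕ}
    (hn : (e0 : ℤ) - p * e1 + q * e2 = (d0 : ℤ) - p * d1 + q * d2) (hc : (d1 : ℤ) - d2 = (e1 : ℤ) - e2) :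
    a ^ d0 * b ^ d1 * c ^ d2 = a ^ e0 * b ^ e1 * c ^ e2 := by
  wlog hle : d2 ≤ e2 generalizing d0 d1 d2 e0 e1 e2
  · exact (this hn.symm hc.symm (by omega)).symm
  obtain ⟨y, rfl⟩ := Nat.exists_eq_add_of_le hle
  have h1 : e1 = d1 + y := by omega
  subst h1
  have h2 : d0 = e0 + (q - p) * y := by
    have h3 : ((q - p : ℕ) : ℤ) = (q : ℤ) - p := by omega
    have : (d0 : ℤ) = e0 + ((q - p : ℕ) : ℤ) * y := by
      rw [h3]; push_cast at hn; linarith
    exact_mod_cast this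
  rw [h2, pow_add a, pow_mul, h, mul_pow, pow_add, pow_add]
  ring

theorem rel_shift (hpq : p < q) {s : R} (h : a ^ (q - p) = b * c) (hs : a ^ (m * p) * b ^ m = s)
    {d0 d1 d2 e0 e1 e2 x : ℕ}
    (hn : (e0 : ℤ) - p * e1 + q * e2 = (d0 : ℤ) - p * d1 + q * d2)
    (hc : (d1 : ℤ) - d2 = (e1 : ℤ) - e2 + m * x) :
    a ^ d0 * b ^ d1 * c ^ d2 = s ^ x * (a ^ e0 * b ^ e1 * c ^ e2) := by
  rw [rel_same hpq h (e0 := e0 + m * p * x) (e1 := e1 + m * x) (e2 := e2) (by push_cast; linarith) (by push_cast; linarith),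
    ← hs, pow_add, pow_add, mul_pow, ← pow_mul, ← pow_mul]
  ring

theorem rel_span (hpq : p < q) {k : Type u} [Field k] [Algebra k R] {s : k} (h : a ^ (q - p) = b * c)
    (hs : a ^ (m * p) * b ^ m = algebraMap k R s) {d0 d1 d2 e0 e1 e2 : ℕ}
    (hn : (e0 : ℤ) - p * e1 + q * e2 = (d0 : ℤ) - p * d1 + q * d2)
    (hc : (m : ℤ) ∣ ((d1 : ℤ) - d2) - ((e1 : ℤ) - e2)) :
    ∃ r : k, a ^ d0 * b ^ d1 * c ^ d2 = r • (a ^ e0 * b ^ e1 * c ^ e2) ∨
      a ^ e0 * b ^ e1 * c ^ e2 = r • (a ^ d0 * b ^ d1 * c ^ d2) := by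
  obtain ⟨x, hx⟩ := hc
  obtain ⟨n, rfl | rfl⟩ := Int.eq_nat_or_neg x
  · exact ⟨s ^ n, .inl (by rw [rel_shift hpq h hs hn (x := n) (by linarith), Algebra.smul_def, map_pow])⟩
  · exact ⟨s ^ n, .inr (by rw [rel_shift hpq h hs hn.symm (x := n) (by linarith), Algebra.smul_def, map_pow])⟩

end Rel

/-- The monomials in the last case of the toric lemma. -/
theorem small_pair (hp : 0 < p) (hpq : p < q) (hcop : Nat.Coprime p q) (hm : 0 < m) {d0 d1 d2 e0 e1 e2 : ℕ}
    (hn : (e0 : ℤ) - p * e1 + q * e2 = (d0 : ℤ) - p * d1 + q * d2)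
    (hc : (m : ℤ) ∣ ((e1 : ℤ) - e2) - ((d1 : ℤ) - d2))
    (hd0 : d0 < Nat.gcd m (q - p)) (he0 : e0 < Nat.gcd m (q - p)) :
    d0 = e0 ∧ ∃ u : ℤ, (e1 : ℤ) = d1 + (m / Nat.gcd m (q - p) * q : ℕ) * u ∧
      (e2 : ℤ) = d2 + (m / Nat.gcd m (q - p) * p : ℕ) * u ∧
      ((e1 : ℤ) - e2) - ((d1 : ℤ) - d2) = (m : ℤ) * ((q - p) / Nat.gcd m (q - p) : ℕ) * u := by
  have hg0 : 0 < Nat.gcd m (q - p) := Nat.gcd_pos_of_pos_left _ hm
  obtain ⟨A, hA⟩ := Nat.gcd_dvd_left m (q - p)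
  obtain ⟨B, hB⟩ := Nat.gcd_dvd_right m (q - p)
  set g := Nat.gcd m (q - p) with hg
  have hAB : Nat.Coprime A B := by
    have h1 : Nat.gcd (g * A) (g * B) = g := by rw [← hA, ← hB]
    rw [Nat.gcd_mul_left] at h1
    exact Nat.eq_of_mul_eq_mul_left hg0 (by rw [h1, mul_one])
  have hmA : m / g = A := by rw [hA, Nat.mul_div_cancel_left _ hg0]
  have hqB : (q - p) / g = B := by rw [hB, Nat.mul_div_cancel_left _ hg0]
  rw [hmA, hqB]
  have hqp : (q : ℤ) - p = (g : ℤ) * B := by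
    have : ((q - p : ℕ) : ℤ) = (g : ℤ) * B := by rw [hB]; push_cast; rfl
    omega
  have hmz : (m : ℤ) = (g : ℤ) * A := by exact_mod_cast hA
  obtain ⟨x, hx⟩ := hc
  have hz : (e0 : ℤ) - d0 = (g : ℤ) * (p * A * x - B * ((e2 : ℤ) - d2)) := by
    linear_combination hn + (p : ℤ) * hx + (p : ℤ) * x * hmz - ((e2 : ℤ) - d2) * hqp
  have hw : (p : ℤ) * A * x - B * ((e2 : ℤ) - d2) = 0 := by
    rcases lt_trichotomy ((p : ℤ) * A * x - B * ((e2 : ℤ) - d2)) 0 with h | h | h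
    · exfalso; nlinarith
    · exact h
    · exfalso; nlinarith
  rw [hw, mul_zero] at hz
  refine ⟨by omega, ?_⟩
  have hpB : Nat.Coprime (p * A) B := by
    refine Nat.Coprime.mul_left ?_ hAB
    exact ((Nat.coprime_sub_self_right hpq.le).2 hcop).coprime_dvd_right ⟨g, by rw [hB]; ring⟩
  have hdvd : (B : ℤ) ∣ ((p * A : ℕ) : ℤ) * x := ⟨(e2 : ℤ) - d2, by push_cast; linarith⟩
  obtain ⟨u, hu⟩ := (Int.dvd_of_dvd_mul_right_of_gcd_one hdvd
    (by rw [Int.gcd_natCast_natCast]; exact hpB.symm))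
  have hB0 : (B : ℤ) ≠ 0 := by
    intro h0; rw [h0] at hqp; omega
  have h2 : (e2 : ℤ) - d2 = p * A * u := mul_left_cancel₀ hB0 (by rw [hu] at hw; linarith)
  refine ⟨u, ?_, by push_cast; linarith, by rw [hx, hu]; ring⟩
  push_cast
  linear_combination hx + (m : ℤ) * hu + h2 + (B : ℤ) * u * hmz - (A : ℤ) * u * hqp

section L
variable {c : List ℤ} {k : Type u} [Field k]

/-- A monomial which is not visibly killed nor reducible. -/
def Good (p q m : ℕ) (c : List ℤ) (i : ℕ) (d : Fin 3 →₀ ℕ) : Prop :=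
  (d 0 : ℤ) < nN p q m c i ∧ ¬ (eE p q m c (i + 1) ≤ d 1 ∧ lL p q m c (i + 1) ≤ d 2) ∧
    ∀ z : Fin 3 →₀ ℕ, z ≤ d → z ≠ 0 → Finsupp.weight (wt3 p q m) z ≠ 0

theorem good_unique (S : Setup p q m c) {i : ℕ} (hi : i < c.length) {d d' : Fin 3 →₀ ℕ}
    (hd : Good p q m c i d) (hd' : Good p q m c i d')
    (hw : Finsupp.weight (wt3 p q m) d = Finsupp.weight (wt3 p q m) d') : d = d' := by
  rw [weight3 d, weight3 d', Prod.mk.injEq, ZMod.intCast_eq_intCast_iff_dvd_sub] at hw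
  obtain ⟨hn, x, hx⟩ := hw
  wlog hx0 : 0 ≤ x generalizing d d' x
  · exact (this hd' hd hn.symm (-x) (by rw [mul_neg]; linarith) (by linarith)).symm
  -- `c(d) = c(d') + m x`
  have key : ((q : ℤ) - p) * ((d 2 : ℤ) - d' 2) = p * m * x + ((d' 0 : ℤ) - d 0) := by
    linear_combination hn + (p : ℤ) * hx
  have hle := S.nN_le hi.le
  rcases hx0.lt_or_eq with hxpos | rfl
  · by_cases hv : (0 : ℤ) ≤ (d' 0 : ℤ) - d 0
    · exfalso
      obtain ⟨h1, h2⟩ := S.dominates hi hxpos hv (by have := hd'.1; omega) key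
      have h3 := S.lL_pos (i := i + 1) hi
      exact hd.2.1 ⟨by linarith, by linarith⟩
    · exfalso
      have hlt := hd.1
      have hy : 0 ≤ (d 2 : ℤ) - d' 2 := by
        by_contra hneg
        push Not at hneg
        have : (0 : ℤ) ≤ p * m * x := by positivity
        nlinarith
      have hpq : (0 : ℤ) < (q : ℤ) - p := by have := S.hpq; omega
      have hmx : 0 ≤ (m : ℤ) * x := by positivity
      refine hd.2.2 (E3 (d 0 - d' 0) (d 1 - d' 1) (d 2 - d' 2)) (fun j => ?_) (fun h0 => ?_) ?_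
      · fin_cases j <;> simp [E3]
      · have := DFunLike.congr_fun h0 0
        simp [E3] at this
        omega
      · rw [weight3]
        simp only [E3, Finsupp.coe_equivFunOnFinite_symm, Matrix.cons_val_zero, Matrix.cons_val_one,
          Matrix.cons_val_two, Matrix.tail_cons, Matrix.head_cons]
        rw [Nat.cast_sub (by omega), Nat.cast_sub (by omega), Nat.cast_sub (by omega)]
        rw [Prod.mk_eq_zero, ZMod.intCast_zmod_eq_zero_iff_dvd]
        exact ⟨by linarith, ⟨-x, by linarith⟩⟩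
  · rw [mul_zero] at key
    have hv : (d' 0 : ℤ) - d 0 = 0 := by
      have := hd.1; have := hd'.1
      rcases lt_trichotomy ((d 2 : ℤ) - d' 2) 0 with h | h | h
      · nlinarith
      · rw [h] at key; linarith
      · nlinarith
    have hy : (d 2 : ℤ) - d' 2 = 0 := by
      rw [hv] at key
      rcases mul_eq_zero.1 (key.trans (zero_add _)) with h | h
      · have := S.hpq; omega
      · exact h
    ext j
    fin_cases j <;> simp <;> omega

theorem exists_good (S : Setup p q m c) {i : ℕ} (hi : i < c.length) (s : k) (d : Fin 3 →₀ ℕ) :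
    ∃ (r : k) (d' : Fin 3 →₀ ℕ), monomial d 1 - r • monomial d' 1 ∈ idealL k p q m c (i + 1) s ∧
      (r = 0 ∨ (Good p q m c i d' ∧ Finsupp.weight (wt3 p q m) d' = Finsupp.weight (wt3 p q m) d)) := by
  induction h1 : d 1 using Nat.strong_induction_on generalizing d with
  | _ N ih =>
    subst h1
    have hzero : monomial d (1 : k) ∈ idealL k p q m c (i + 1) s → ∃ (r : k) (d' : Fin 3 →₀ ℕ),
        monomial d 1 - r • monomial d' 1 ∈ idealL k p q m c (i + 1) s ∧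
        (r = 0 ∨ (Good p q m c i d' ∧ Finsupp.weight (wt3 p q m) d' = Finsupp.weight (wt3 p q m) d)) :=
      fun h => ⟨0, d, by rwa [zero_smul, sub_zero], .inl rfl⟩
    by_cases hz : ∃ z : Fin 3 →₀ ℕ, z ≤ d ∧ z ≠ 0 ∧ Finsupp.weight (wt3 p q m) z = 0
    · obtain ⟨z, hzd, hz0, hzw⟩ := hz
      refine hzero (Ideal.mem_of_dvd _ ?_ (Ideal.mem_sup_right (Ideal.subset_span ⟨z, hz0, hzw, rfl⟩)))
      exact monomial_dvd_monomial.2 ⟨.inr hzd, dvd_refl 1⟩
    have hgen : ∀ x ∈ ({X 0 ^ (nN p q m c (i + 1 - 1)).toNat,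
        C s * X 0 ^ (nN p q m c (i + 1)).toNat - X 1 ^ (eE p q m c (i + 1)).toNat * X 2 ^ (lL p q m c (i + 1)).toNat} :
          Set (MvPolynomial (Fin 3) k)), x ∈ idealL k p q m c (i + 1) s :=
      fun x hx => Ideal.mem_sup_left (Ideal.subset_span hx)
    by_cases h0 : nN p q m c i ≤ d 0
    · refine hzero (Ideal.mem_of_dvd _ ?_ (hgen _ (Set.mem_insert _ _)))
      rw [monomial3, Nat.add_sub_cancel]
      exact Dvd.dvd.mul_right (Dvd.dvd.mul_right (pow_dvd_pow _ (by omega)) _) _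
    by_cases h12 : eE p q m c (i + 1) ≤ d 1 ∧ lL p q m c (i + 1) ≤ d 2
    · obtain ⟨E, hE⟩ : ∃ E : ℕ, eE p q m c (i + 1) = E := ⟨_, (Int.toNat_of_nonneg (S.eE_pos hi).le).symm⟩
      obtain ⟨L, hL⟩ : ∃ L : ℕ, lL p q m c (i + 1) = L := ⟨_, (Int.toNat_of_nonneg (S.lL_pos hi).le).symm⟩
      obtain ⟨n, hn⟩ : ∃ n : ℕ, nN p q m c (i + 1) = n := by
        rcases (Nat.lt_or_eq_of_le (Nat.succ_le_of_lt hi)) with h | h
        · exact ⟨_, (Int.toNat_of_nonneg (S.nN_pos h.le).le).symm⟩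
        · exact ⟨_, (Int.toNat_of_nonneg (S.nN_pos h.le).le).symm⟩
      have hE0 : 0 < E := by have := S.eE_pos (i := i + 1) hi; omega
      obtain ⟨r, d', hr, hg⟩ := ih ((E3 (d 0 + n) (d 1 - E) (d 2 - L)) 1) (by simp [E3]; omega) _ rfl
      refine ⟨s * r, d', ?_, ?_⟩
      · have hmem := (idealL k p q m c (i + 1) s).mul_mem_left
          (X 0 ^ d 0 * X 1 ^ (d 1 - E) * X 2 ^ (d 2 - L)) (hgen _ (Set.mem_insert_of_mem _ rfl))
        have h2 := Submodule.smul_of_tower_mem (idealL k p q m c (i + 1) s) s hr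
        have e : monomial d (1 : k) - (s * r) • monomial d' 1 =
            s • (monomial (E3 (d 0 + n) (d 1 - E) (d 2 - L)) 1 - r • monomial d' 1) -
              X 0 ^ d 0 * X 1 ^ (d 1 - E) * X 2 ^ (d 2 - L) *
                (C s * X 0 ^ n - X 1 ^ E * X 2 ^ L) := by
          rw [monomial3 d, monomial3 (E3 _ _ _)]
          simp only [E3, Finsupp.coe_equivFunOnFinite_symm, Matrix.cons_val_zero, Matrix.cons_val_one,
            Matrix.cons_val_two, Matrix.tail_cons, Matrix.head_cons]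
          conv_lhs => rw [show d 1 = (d 1 - E) + E by omega, show d 2 = (d 2 - L) + L by omega]
          simp only [smul_eq_C_mul, map_mul, pow_add]
          ring
        rw [e]
        rw [hn, hE, hL, Int.toNat_natCast, Int.toNat_natCast, Int.toNat_natCast] at hmem
        exact sub_mem h2 hmem
      · rcases hg with rfl | ⟨hg1, hg2⟩
        · exact .inl (mul_zero s)
        · refine .inr ⟨hg1, hg2.trans ?_⟩
          rw [weight3, weight3, Prod.mk.injEq, ZMod.intCast_eq_intCast_iff_dvd_sub]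
          simp only [E3, Finsupp.coe_equivFunOnFinite_symm, Matrix.cons_val_zero, Matrix.cons_val_one,
            Matrix.cons_val_two, Matrix.tail_cons, Matrix.head_cons]
          rw [Nat.cast_sub (by omega), Nat.cast_sub (by omega), Nat.cast_add, ← hn, ← hE, ← hL]
          refine ⟨?_, ⟨-hjP c (i + 1), ?_⟩⟩
          · simp only [nN]; ring
          · rw [S.eE_eq]; ring
    refine ⟨1, d, by simp, .inr ⟨⟨not_le.1 h0, h12, fun z hzd hz0 hzw => hz ⟨z, hzd, hz0, hzw⟩⟩, rfl⟩⟩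

theorem rank_L_le_one (S : Setup p q m c) {i : ℕ} (hi : i < c.length) (s : k) (ν : ℤ × ZMod m) :
    Module.rank k (piece k (wt3 p q m) (idealL k p q m c (i + 1) s) ν) ≤ 1 := by
  refine rank_piece_le_one _ ν fun d d' hd hd' => ?_
  obtain ⟨r, e, he, hg⟩ := exists_good S hi s d
  obtain ⟨r', e', he', hg'⟩ := exists_good S hi s d'
  rcases hg with rfl | ⟨hg1, hg2⟩
  · exact ⟨0, .inl (by simpa using he)⟩
  rcases hg' with rfl | ⟨hg1', hg2'⟩
  · exact ⟨0, .inr (by simpa using he')⟩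
  obtain rfl := good_unique S hi hg1 hg1' (by rw [hg2, hg2', hd, hd'])
  by_cases hr' : r' = 0
  · subst hr'; exact ⟨0, .inr (by simpa using he')⟩
  refine ⟨r / r', .inl ?_⟩
  have h2 := Submodule.smul_of_tower_mem (idealL k p q m c (i + 1) s) (r / r') he'
  rw [smul_sub, smul_smul, div_mul_cancel₀ _ hr'] at h2
  have := sub_mem he h2
  rwa [sub_sub_sub_cancel_right] at this

end L

end Groth.L13.InvHilb
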