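import Groth.Agent.L13.InvHilb.Cases

/-! Generators of the weight pieces modulo the hypersurface. -/

set_option autoImplicit false

noncomputable section

universe u

namespace Groth.L13.InvHilb

open MvPolynomial W4c2invhilbsl2

variable {k : Type u} [Field k] {p q m : ℕ}

/-- The hypersurface ideal. -/
abbrev hyp (k : Type u) [Field k] (p q : ℕ) : Ideal (MvPolynomial (Fin 5) k) :=
  Ideal.span {X (0 : Fin 5) ^ (q - p) - X 1 * X 4 + X 2 * X 3}

theorem monomial_mem_of_hyp (hpq : p < q) (S : Submodule k (MvPolynomial (Fin 5) k))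
    (hS : ∀ x y, x - y ∈ hyp k p q → y ∈ S → x ∈ S) {ν : ℤ × ZMod m} {d : Fin 5 →₀ ℕ}
    (hd : Finsupp.weight (wt5 p q m) d = ν) (h0 : q - p ≤ d 0)
    (hA : ∀ d' : Fin 5 →₀ ℕ, Finsupp.weight (wt5 p q m) d' = ν → d' = E5 (d 0 - (q - p)) (d 1 + 1) (d 2) (d 3) (d 4 + 1) →
      monomial d' 1 ∈ S)
    (hB : ∀ d' : Fin 5 →₀ ℕ, Finsupp.weight (wt5 p q m) d' = ν → d' = E5 (d 0 - (q - p)) (d 1) (d 2 + 1) (d 3 + 1) (d 4) →
      monomial d' 1 ∈ S) :
    monomial d 1 ∈ S := by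
  have hz : ((q - p : ℕ) : ℤ) = (q : ℤ) - p := by omega
  refine hS _ (monomial (E5 (d 0 - (q - p)) (d 1 + 1) (d 2) (d 3) (d 4 + 1)) 1 -
    monomial (E5 (d 0 - (q - p)) (d 1) (d 2 + 1) (d 3 + 1) (d 4)) 1) ?_ (S.sub_mem (hA _ ?_ rfl) (hB _ ?_ rfl))
  · have hm := (hyp k p q).mul_mem_left (X 0 ^ (d 0 - (q - p)) * X 1 ^ d 1 * X 2 ^ d 2 * X 3 ^ d 3 * X 4 ^ d 4)
      (Ideal.subset_span rfl : (X (0 : Fin 5) ^ (q - p) - X 1 * X 4 + X 2 * X 3 : MvPolynomial (Fin 5) k) ∈ hyp k p q)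
    convert hm using 1
    rw [monomial5 d, monomial5, monomial5]
    conv_lhs => rw [show d 0 = d 0 - (q - p) + (q - p) by omega, pow_add]
    simp
    ring
  · rw [← hd, weight5, weight5]
    simp only [Prod.mk.injEq, Finsupp.coe_equivFunOnFinite_symm]
    refine ⟨?_, by congr 1; simp; ring⟩
    simp [Nat.cast_sub h0, hz]; ring
  · rw [← hd, weight5, weight5]
    simp only [Prod.mk.injEq, Finsupp.coe_equivFunOnFinite_symm]
    refine ⟨?_, by congr 1; simp; ring⟩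
    simp [Nat.cast_sub h0, hz]; ring

theorem toric_dom {c : List ℤ} (S : Setup p q m c) {i : ℕ} (hi : i < c.length) {d0 D1 D2 x : ℤ}
    (hD1 : 0 ≤ D1) (hD2 : 0 ≤ D2) (h0 : 0 ≤ d0)
    (h0' : d0 < nN p q m c (i + 1)) (hn : d0 - p * D1 + q * D2 = nN p q m c (i + 1)) (hx : D1 - D2 = m * x) :
    eE p q m c (i + 1) ≤ D1 ∧ lL p q m c (i + 1) ≤ D2 := by
  have key : ((q : ℤ) - p) * D2 = p * m * x + (nN p q m c (i + 1) - d0) := by
    linear_combination hn + (p : ℤ) * hx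
  have h1 := S.nN_succ_lt hi.le
  have h2 := S.nN_le hi.le
  have hpos : 0 < x := by
    by_contra hneg
    push Not at hneg
    have hpm : (p : ℤ) * m * x ≤ 0 := mul_nonpos_of_nonneg_of_nonpos (by positivity) hneg
    have hD20 : D2 = 0 := by
      by_contra hne
      have : 1 ≤ D2 := by omega
      nlinarith
    rw [hD20, sub_zero] at hx
    have hmx : (m : ℤ) * x ≤ 0 := mul_nonpos_of_nonneg_of_nonpos (by positivity) hneg
    rw [hD20, mul_zero] at key
    have : (p : ℤ) * m * x = 0 := by rw [mul_assoc, ← hx]; nlinarith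
    linarith
  obtain ⟨hl, he⟩ := S.dominates hi hpos (v := nN p q m c (i + 1) - d0) (by linarith) (by linarith) key
  exact ⟨by linarith, hl⟩

end Groth.L13.InvHilb
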