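import Groth.Prelude.Def_W4c2invhilbsl2HJ
import Mathlib.Tactic

/-! Hirzebruch–Jung bookkeeping for the weights `(1,0), (-p,-1), (q,1)`. -/

set_option autoImplicit false

namespace Groth.L13.InvHilb

open W4c2invhilbsl2

section Frac

theorem one_lt_hjVal : ∀ (l : List ℤ), (∀ x ∈ l, (2 : ℤ) ≤ x) → l ≠ [] → 1 < HJFrac.hjVal l
  | [], _, h => absurd rfl h
  | b :: l, hl, _ => by
    have hb : (2 : ℚ) ≤ (b : ℚ) := by exact_mod_cast hl b (List.mem_cons_self ..)
    rcases eq_or_ne l [] with rfl | hne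
    · simp [HJFrac.hjVal]; linarith
    · have h1 := one_lt_hjVal l (fun x hx => hl x (List.mem_cons_of_mem _ hx)) hne
      have h2 : (HJFrac.hjVal l)⁻¹ < 1 := inv_lt_one_of_one_lt₀ h1
      show 1 < (b : ℚ) - (HJFrac.hjVal l)⁻¹
      linarith

end Frac

variable (b t : ℤ) (c : List ℤ)

/-- The remainders of the continued fraction algorithm. -/
def rem (i : ℕ) : ℤ := t * hjP c i - b * hjQ c i

variable {b t c}

theorem rem_zero : rem b t c 0 = b := by simp [rem, hjP, hjQ]
theorem rem_one : rem b t c 1 = t := by simp [rem, hjP, hjQ]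
theorem rem_step (i : ℕ) : rem b t c (i + 2) = c.getD i 0 * rem b t c (i + 1) - rem b t c i := by
  simp only [rem, hjP, hjQ]; ring

theorem det_rem (i : ℕ) : hjP c (i + 1) * rem b t c i - hjP c i * rem b t c (i + 1) = b := by
  induction i with
  | zero => simp [rem_zero, rem_one, hjP]
  | succ i ih => rw [rem_step, show hjP c (i + 2) = c.getD i 0 * hjP c (i + 1) - hjP c i from rfl]; linarith

theorem two_le_getD (hc : ∀ x ∈ c, (2 : ℤ) ≤ x) {i : ℕ} (hi : i < c.length) : 2 ≤ c.getD i 0 := by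
  rw [List.getD_eq_getElem _ _ hi]; exact hc _ (List.getElem_mem hi)

theorem hjP_lt_succ (hc : ∀ x ∈ c, (2 : ℤ) ≤ x) :
    ∀ i, i ≤ c.length → 0 ≤ hjP c i ∧ hjP c i < hjP c (i + 1) := by
  intro i
  induction i with
  | zero => simp [hjP]
  | succ i ih =>
    intro hi
    obtain ⟨h0, h1⟩ := ih (by omega)
    have := two_le_getD hc (i := i) (by omega)
    refine ⟨by omega, ?_⟩
    show hjP c (i + 1) < c.getD i 0 * hjP c (i + 1) - hjP c i
    nlinarith

theorem hjP_sub_hjQ_pos (hc : ∀ x ∈ c, (2 : ℤ) ≤ x) :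
    ∀ i, i ≤ c.length → 1 ≤ hjP c i - hjQ c i ∧ hjP c i - hjQ c i ≤ hjP c (i + 1) - hjQ c (i + 1) := by
  intro i
  induction i with
  | zero => simp [hjP, hjQ]
  | succ i ih =>
    intro hi
    obtain ⟨h0, h1⟩ := ih (by omega)
    have := two_le_getD hc (i := i) (by omega)
    refine ⟨by omega, ?_⟩
    show _ ≤ (c.getD i 0 * hjP c (i + 1) - hjP c i) - (c.getD i 0 * hjQ c (i + 1) - hjQ c i)
    nlinarith

theorem rem_ratio (hc : ∀ x ∈ c, (2 : ℤ) ≤ x) (hb : 0 < b) (ht : 0 < t) (hv : HJFrac.hjVal c = (b : ℚ) / t) :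
    ∀ i, i < c.length → 0 < rem b t c (i + 1) ∧
      (rem b t c i : ℚ) = HJFrac.hjVal (c.drop i) * rem b t c (i + 1) := by
  intro i
  induction i with
  | zero =>
    intro _
    refine ⟨by rw [rem_one]; exact ht, ?_⟩
    rw [rem_zero, rem_one, List.drop_zero, hv, div_mul_cancel₀]
    exact_mod_cast ht.ne'
  | succ i ih =>
    intro hi
    obtain ⟨hpos, heq⟩ := ih (by omega)
    rw [List.drop_eq_getElem_cons (by omega : i < c.length)] at heq
    simp only [HJFrac.hjVal] at heq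
    have hne : c.drop (i + 1) ≠ [] := by simp; omega
    have hv1 := one_lt_hjVal _ (fun x hx => hc x (List.mem_of_mem_drop hx)) hne
    have h2 : (rem b t c (i + 2) : ℚ) = (HJFrac.hjVal (c.drop (i + 1)))⁻¹ * rem b t c (i + 1) := by
      rw [rem_step, List.getD_eq_getElem _ _ (by omega : i < c.length)]
      push_cast
      rw [heq]; ring
    refine ⟨?_, ?_⟩
    · have : (0 : ℚ) < rem b t c (i + 2) := by
        rw [h2]
        exact mul_pos (inv_pos.2 (by linarith)) (by exact_mod_cast hpos)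
      exact_mod_cast this
    · show ((rem b t c (i + 1) : ℤ) : ℚ) = _ * (rem b t c (i + 2) : ℚ)
      rw [h2, ← mul_assoc, mul_inv_cancel₀ (by linarith), one_mul]

theorem rem_last (hc : ∀ x ∈ c, (2 : ℤ) ≤ x) (hb : 0 < b) (ht : 0 < t) (hv : HJFrac.hjVal c = (b : ℚ) / t) :
    rem b t c (c.length + 1) = 0 := by
  have hne : c ≠ [] := by
    rintro rfl
    simp only [HJFrac.hjVal] at hv
    exact (div_pos (by exact_mod_cast hb) (by exact_mod_cast ht) : (0 : ℚ) < (b : ℚ) / t).ne hv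
  obtain ⟨r, hr⟩ : ∃ r, c.length = r + 1 := ⟨c.length - 1, by have := List.length_pos_iff.2 hne; omega⟩
  obtain ⟨hpos, heq⟩ := rem_ratio hc hb ht hv r (by omega)
  rw [List.drop_eq_getElem_cons (by omega : r < c.length), List.drop_eq_nil_of_le (by omega)] at heq
  simp only [HJFrac.hjVal, inv_zero, sub_zero] at heq
  have h1 : rem b t c r = c[r] * rem b t c (r + 1) := by exact_mod_cast heq
  rw [hr, rem_step, List.getD_eq_getElem _ _ (by omega : r < c.length), h1, sub_self]

theorem rem_pos (hc : ∀ x ∈ c, (2 : ℤ) ≤ x) (hb : 0 < b) (ht : 0 < t) (hv : HJFrac.hjVal c = (b : ℚ) / t)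
    {i : ℕ} (hi : i ≤ c.length) : 0 < rem b t c i := by
  rcases i with _ | i
  · rw [rem_zero]; exact hb
  · exact (rem_ratio hc hb ht hv i (by omega)).1

theorem rem_succ_lt (hc : ∀ x ∈ c, (2 : ℤ) ≤ x) (hb : 0 < b) (ht : 0 < t) (hv : HJFrac.hjVal c = (b : ℚ) / t)
    {i : ℕ} (hi : i ≤ c.length) : rem b t c (i + 1) < rem b t c i := by
  rcases lt_or_eq_of_le hi with h | rfl
  · obtain ⟨hpos, heq⟩ := rem_ratio hc hb ht hv i h
    have hne : c.drop i ≠ [] := by simp; omega
    have hv1 := one_lt_hjVal _ (fun x hx => hc x (List.mem_of_mem_drop hx)) hne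
    have hpos' : (0 : ℚ) < rem b t c (i + 1) := by exact_mod_cast hpos
    have : (rem b t c (i + 1) : ℚ) < rem b t c i := by rw [heq]; nlinarith
    exact_mod_cast this
  · rw [rem_last hc hb ht hv]; exact rem_pos hc hb ht hv le_rfl

theorem rem_le (hc : ∀ x ∈ c, (2 : ℤ) ≤ x) (hb : 0 < b) (ht : 0 < t) (hv : HJFrac.hjVal c = (b : ℚ) / t) :
    ∀ {i : ℕ}, i ≤ c.length → rem b t c i ≤ b := by
  intro i
  induction i with
  | zero => intro _; rw [rem_zero]
  | succ i ih => intro hi; exact (rem_succ_lt hc hb ht hv (by omega)).le.trans (ih (by omega))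

theorem rem_length (hc : ∀ x ∈ c, (2 : ℤ) ≤ x) (hb : 0 < b) (ht : 0 < t) (hv : HJFrac.hjVal c = (b : ℚ) / t)
    (hcop : IsCoprime b t) : rem b t c c.length = 1 := by
  have h : ∀ i, IsCoprime (rem b t c i) (rem b t c (i + 1)) := by
    intro i
    induction i with
    | zero => rwa [rem_zero, rem_one]
    | succ i ih =>
      rw [rem_step, show c.getD i 0 * rem b t c (i + 1) - rem b t c i =
        rem b t c (i + 1) * c.getD i 0 + -rem b t c i by ring]
      exact (ih.symm.neg_right).mul_add_left_right _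
  have h1 := h c.length
  rw [rem_last hc hb ht hv, isCoprime_zero_right, Int.isUnit_iff] at h1
  have := rem_pos hc hb ht hv (le_refl c.length)
  omega

theorem rem_best (hc : ∀ x ∈ c, (2 : ℤ) ≤ x) (hb : 0 < b) (ht : 0 < t) (hv : HJFrac.hjVal c = (b : ℚ) / t)
    {i : ℕ} (hi : i < c.length) {x y : ℤ} (hx0 : 0 < x) (hx : x < hjP c (i + 1)) (hρ0 : 0 ≤ t * x - b * y)
    (hρb : t * x - b * y < b) : rem b t c i ≤ t * x - b * y := by
  set A := hjP c (i + 1) * y - hjQ c (i + 1) * x with hA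
  set B := hjQ c i * x - hjP c i * y with hB
  have hdet : hjP c i * hjQ c (i + 1) - hjP c (i + 1) * hjQ c i = 1 := by
    clear hA hB A B hx hi
    induction i with
    | zero => simp [hjP, hjQ]
    | succ i ih =>
      show hjP c (i + 1) * (c.getD i 0 * hjQ c (i + 1) - hjQ c i) -
        (c.getD i 0 * hjP c (i + 1) - hjP c i) * hjQ c (i + 1) = 1
      linarith
  have hxe : x = -(A * hjP c i) - B * hjP c (i + 1) := by
    rw [hA, hB]; linear_combination (-x) * hdet
  have hρe : t * x - b * y = -(A * rem b t c i) - B * rem b t c (i + 1) := by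
    rw [hA, hB]; simp only [rem]
    linear_combination (b * y - t * x) * hdet
  obtain ⟨hP0, hP1⟩ := hjP_lt_succ hc i hi.le
  have hr1 := rem_pos hc hb ht hv (i := i + 1) (by omega)
  have hr0 := rem_succ_lt hc hb ht hv hi.le
  rcases le_or_gt B 0 with hB0 | hB0
  · rcases lt_or_eq_of_le hB0 with hBneg | hBz
    · exfalso
      have hA0 : 0 < A := by
        by_contra hA0
        push Not at hA0
        nlinarith
      have h4 : (-B - 1) * hjP c (i + 1) < A * hjP c (i + 1) := by nlinarith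
      have h5 : -B ≤ A := by
        have := lt_of_mul_lt_mul_right h4 (by omega)
        omega
      nlinarith
    · rw [hBz] at hxe hρe
      have hA1 : A ≤ -1 := by
        by_contra hA1
        push Not at hA1
        nlinarith
      nlinarith
  · have hA0 : A < 0 := by
      by_contra hA0
      push Not at hA0
      nlinarith
    have h4 : B * hjP c (i + 1) < -A * hjP c (i + 1) := by nlinarith
    have h5 : B + 1 ≤ -A := by
      have := lt_of_mul_lt_mul_right h4 (by omega)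
      omega
    nlinarith

/-! Specialisation to the data `p, q, m`. -/

section Data

variable {p q m : ℕ}

theorem data (hp : 0 < p) (hpq : p < q) (hcop : Nat.Coprime p q) (hm : 0 < m) (hnt : ¬ (q - p ∣ m)) :
    (gcdK p q m * bB p q m : ℕ) = q - p ∧ (gcdK p q m * tT p q m + m * p % (q - p) : ℕ) = q - p ∧
      0 < gcdK p q m ∧ 0 < tT p q m ∧ 0 < bB p q m ∧ Nat.Coprime (bB p q m) (tT p q m) := by
  have hg : gcdK p q m ∣ q - p := Nat.gcd_dvd_right _ _
  have hg0 : 0 < gcdK p q m := Nat.gcd_pos_of_pos_left _ hm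
  have hgb : gcdK p q m ∣ m * p % (q - p) :=
    (Nat.dvd_mod_iff hg).2 ((Nat.gcd_dvd_left m _).mul_right p)
  have h1 : gcdK p q m * bB p q m = q - p := Nat.mul_div_cancel' hg
  have hlt : m * p % (q - p) < q - p := Nat.mod_lt _ (by omega)
  have h2 : gcdK p q m * tT p q m = q - p - m * p % (q - p) := Nat.mul_div_cancel' (Nat.dvd_sub hg hgb)
  have hb0 : 0 < bB p q m := by
    by_contra h; simp only [not_lt, nonpos_iff_eq_zero] at h; rw [h, mul_zero] at h1; omega
  have ht0 : 0 < tT p q m := by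
    by_contra h; simp only [not_lt, nonpos_iff_eq_zero] at h; rw [h, mul_zero] at h2; omega
  refine ⟨h1, by omega, hg0, ht0, hb0, ?_⟩
  have hpd : Nat.Coprime p (q - p) := (Nat.coprime_sub_self_right hpq.le).2 hcop
  have hgcd : Nat.gcd (gcdK p q m * bB p q m) (gcdK p q m * tT p q m) = gcdK p q m := by
    rw [h1, h2, Nat.gcd_self_sub_right hlt.le, Nat.gcd_comm (q - p), ← Nat.gcd_rec, Nat.gcd_comm,
      Nat.Coprime.gcd_mul_right_cancel m hpd]
    rfl
  rw [Nat.gcd_mul_left] at hgcd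
  exact Nat.eq_of_mul_eq_mul_left hg0 (by rw [hgcd, mul_one])

theorem alpha_spec (hp : 0 < p) (hpq : p < q) (hcop : Nat.Coprime p q) (hm : 0 < m) (hnt : ¬ (q - p ∣ m)) :
    ((alpha p q m : ℤ) + 1) * ((q : ℤ) - p) - m * p = (gcdK p q m : ℤ) * tT p q m := by
  obtain ⟨-, h2, -⟩ := data hp hpq hcop hm hnt
  have h3 := Nat.div_add_mod (m * p) (q - p)
  have h4 : ((q : ℤ) - p) = ((q - p : ℕ) : ℤ) := by omega
  rw [h4]
  simp only [alpha]
  generalize m * p / (q - p) = A at h3 ⊢
  generalize m * p % (q - p) = R at h2 h3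
  generalize q - p = D at h2 h3 ⊢
  have e2 : ((gcdK p q m : ℤ) * tT p q m + R = D) := by exact_mod_cast h2
  have e3 : ((D : ℤ) * A + R = (m : ℤ) * p) := by exact_mod_cast h3
  linear_combination e3 - e2

end Data

variable (p q m : ℕ) (c : List ℤ)

/-- Bundled consequences of the hypotheses of the non-toric case. -/
structure Setup : Prop where
  hp : 0 < p
  hpq : p < q
  hcop : Nat.Coprime p q
  hm : 0 < m
  hnt : ¬ (q - p ∣ m)
  hc : IsHJDigits p q m c

variable {p q m c}

namespace Setup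

variable (S : Setup p q m c)
include S

theorem qp_eq : (q : ℤ) - p = (gcdK p q m : ℤ) * bB p q m := by
  have h := (data S.hp S.hpq S.hcop S.hm S.hnt).1
  have := congrArg (Nat.cast : ℕ → ℤ) h
  push_cast [Nat.cast_sub S.hpq.le] at this
  exact this.symm

theorem g_pos : (0 : ℤ) < gcdK p q m := by exact_mod_cast (data S.hp S.hpq S.hcop S.hm S.hnt).2.2.1
theorem t_pos : (0 : ℤ) < tT p q m := by exact_mod_cast (data S.hp S.hpq S.hcop S.hm S.hnt).2.2.2.1
theorem b_pos : (0 : ℤ) < bB p q m := by exact_mod_cast (data S.hp S.hpq S.hcop S.hm S.hnt).2.2.2.2.1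

theorem val : HJFrac.hjVal c = (((bB p q m : ℤ) : ℚ)) / ((tT p q m : ℤ) : ℚ) := by
  simp only [Int.cast_natCast]; exact S.hc.2

theorem nN_eq (i : ℕ) : nN p q m c i = (gcdK p q m : ℤ) * rem (bB p q m) (tT p q m) c i := by
  have h1 := alpha_spec S.hp S.hpq S.hcop S.hm S.hnt
  have h2 := S.qp_eq
  simp only [nN, eE, lL, rem]
  push_cast
  linear_combination (hjP c i) * h1 - (hjQ c i) * h2

theorem lL_spec (i : ℕ) : ((q : ℤ) - p) * lL p q m c i = nN p q m c i + p * m * hjP c i := by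
  simp only [nN, eE, lL]; push_cast; ring

theorem eE_eq (i : ℕ) : eE p q m c i = lL p q m c i + m * hjP c i := by
  simp only [eE, lL]; push_cast; ring

theorem nN_pos {i : ℕ} (hi : i ≤ c.length) : 0 < nN p q m c i := by
  rw [S.nN_eq]; exact mul_pos S.g_pos (rem_pos S.hc.1 S.b_pos S.t_pos S.val hi)

theorem nN_le {i : ℕ} (hi : i ≤ c.length) : nN p q m c i ≤ (q : ℤ) - p := by
  rw [S.nN_eq, S.qp_eq]; exact mul_le_mul_of_nonneg_left (rem_le S.hc.1 S.b_pos S.t_pos S.val hi) S.g_pos.le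

theorem nN_succ_lt {i : ℕ} (hi : i ≤ c.length) : nN p q m c (i + 1) < nN p q m c i := by
  rw [S.nN_eq, S.nN_eq]
  exact mul_lt_mul_of_pos_left (rem_succ_lt S.hc.1 S.b_pos S.t_pos S.val hi) S.g_pos

theorem lL_pos {i : ℕ} (hi : i ≤ c.length) : 0 < lL p q m c i := by
  have h1 := (hjP_sub_hjQ_pos S.hc.1 i hi).1
  have h2 := (hjP_lt_succ S.hc.1 i hi).1
  simp only [lL]; push_cast
  nlinarith

theorem eE_pos {i : ℕ} (hi : i ≤ c.length) : 0 < eE p q m c i := by
  rw [S.eE_eq]
  have := S.lL_pos hi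
  have h2 := (hjP_lt_succ S.hc.1 i hi).1
  nlinarith

/-- `p m x` is `- g t x` modulo `q - p`. -/
theorem pm_congr (x : ℤ) : ∃ y : ℤ, (p : ℤ) * m * x = ((q : ℤ) - p) * y - (gcdK p q m : ℤ) * tT p q m * x := by
  refine ⟨((alpha p q m : ℤ) + 1) * x, ?_⟩
  linear_combination (-x) * alpha_spec S.hp S.hpq S.hcop S.hm S.hnt

/-- The key arithmetic: a solution with a small remainder has `x` at least `P_i`. -/
theorem hjP_le {i : ℕ} (hi : i < c.length) {x v y : ℤ} (hx : 0 < x) (hv0 : 0 ≤ v)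
    (hv : v < nN p q m c i) (h : ((q : ℤ) - p) * y = p * m * x + v) : hjP c (i + 1) ≤ x := by
  by_contra hlt
  push Not at hlt
  obtain ⟨z, hz⟩ := S.pm_congr x
  have h1 : v = (gcdK p q m : ℤ) * ((tT p q m : ℤ) * x - (bB p q m : ℤ) * (z - y)) := by
    have := S.qp_eq
    linear_combination -h - hz - (z - y) * this
  have hg := S.g_pos
  have h2 : 0 ≤ (tT p q m : ℤ) * x - (bB p q m : ℤ) * (z - y) := by
    by_contra h2; push Not at h2; nlinarith
  rw [S.nN_eq] at hv
  rw [h1] at hv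
  have h3 : (tT p q m : ℤ) * x - (bB p q m : ℤ) * (z - y) < rem (bB p q m) (tT p q m) c i :=
    lt_of_mul_lt_mul_left hv hg.le
  have h4 := rem_le S.hc.1 S.b_pos S.t_pos S.val hi.le
  have := rem_best S.hc.1 S.b_pos S.t_pos S.val hi hx hlt h2 (by linarith)
  linarith

theorem dominates {i : ℕ} (hi : i < c.length) {x v y : ℤ} (hx : 0 < x) (hv0 : 0 ≤ v)
    (hv : v < nN p q m c i) (h : ((q : ℤ) - p) * y = p * m * x + v) :
    lL p q m c (i + 1) ≤ y ∧ eE p q m c (i + 1) ≤ y + m * x := by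
  have hP := S.hjP_le hi hx hv0 hv h
  have h1 : lL p q m c (i + 1) ≤ y := by
    by_contra hlt
    push Not at hlt
    have hl := S.lL_spec (i + 1)
    have hn := S.nN_pos (i := i + 1) hi
    have hn2 := S.nN_succ_lt (i := i) hi.le
    have hn3 := S.nN_le (i := i) hi.le
    have hpm : (0 : ℤ) ≤ p * m := by positivity
    have hpq : (0 : ℤ) < (q : ℤ) - p := by have := S.hpq; omega
    nlinarith
  refine ⟨h1, ?_⟩
  rw [S.eE_eq]
  have : (m : ℤ) * hjP c (i + 1) ≤ m * x := mul_le_mul_of_nonneg_left hP (by positivity)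
  linarith

end Setup

end Groth.L13.InvHilb
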