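import Groth.Agent.L13.InvHilb.HJ
import Mathlib.LinearAlgebra.Dimension.Finite
import Mathlib.LinearAlgebra.Dimension.Constructions

/-! Monomials of the gradings `wt3`, `wt5` and generalities on weight pieces. -/

set_option autoImplicit false

noncomputable section

universe u

namespace Groth.L13.InvHilb

open MvPolynomial W4c2invhilbsl2

variable {k : Type u} [Field k] {p q m : ℕ}

theorem weight3 (d : Fin 3 →₀ ℕ) :
    Finsupp.weight (wt3 p q m) d = ((d 0 : ℤ) - p * d 1 + q * d 2, (((d 2 : ℤ) - d 1 : ℤ) : ZMod m)) := by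
  rw [Finsupp.weight_apply, Finsupp.sum_fintype _ _ (fun i => by exact zero_smul ℕ _), Fin.sum_univ_three]
  simp [wt3, Prod.ext_iff]
  constructor <;> ring

theorem weight5 (d : Fin 5 →₀ ℕ) :
    Finsupp.weight (wt5 p q m) d =
      ((d 0 : ℤ) - p * (d 1 + d 2) + q * (d 3 + d 4), (((d 3 : ℤ) + d 4 - d 1 - d 2 : ℤ) : ZMod m)) := by
  rw [Finsupp.weight_apply, Finsupp.sum_fintype _ _ (fun i => by exact zero_smul ℕ _), Fin.sum_univ_five]
  simp [wt5, Prod.ext_iff]
  constructor <;> ring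

theorem weight3_eq_iff (d : Fin 3 →₀ ℕ) (n r : ℤ) :
    Finsupp.weight (wt3 p q m) d = (n, (r : ZMod m)) ↔
      ((d 0 : ℤ) - p * d 1 + q * d 2 = n ∧ (m : ℤ) ∣ r - ((d 2 : ℤ) - d 1)) := by
  rw [weight3, Prod.mk.injEq, ZMod.intCast_eq_intCast_iff_dvd_sub]

theorem weight5_eq_iff (d : Fin 5 →₀ ℕ) (n r : ℤ) :
    Finsupp.weight (wt5 p q m) d = (n, (r : ZMod m)) ↔
      ((d 0 : ℤ) - p * (d 1 + d 2) + q * (d 3 + d 4) = n ∧ (m : ℤ) ∣ r - ((d 3 : ℤ) + d 4 - d 1 - d 2)) := by
  rw [weight5, Prod.mk.injEq, ZMod.intCast_eq_intCast_iff_dvd_sub]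

section General

variable {σ : Type*} {A : Type*} [AddCommMonoid A] {w : σ → A}

theorem homog_mem (S : Submodule k (MvPolynomial σ k)) {ν : A} {f : MvPolynomial σ k}
    (hf : f ∈ weightedHomogeneousSubmodule k w ν)
    (h : ∀ d : σ →₀ ℕ, Finsupp.weight w d = ν → monomial d 1 ∈ S) : f ∈ S := by
  rw [f.as_sum]
  refine S.sum_mem fun d hd => ?_
  rw [show monomial d (coeff d f) = coeff d f • monomial d (1 : k) by rw [smul_monomial, smul_eq_mul, mul_one]]
  exact S.smul_mem _ (h d (hf (mem_support_iff.1 hd)))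

theorem monomial_mem_weight {d : σ →₀ ℕ} {ν : A} (h : Finsupp.weight w d = ν) (c : k) :
    monomial d c ∈ weightedHomogeneousSubmodule k w ν :=
  isWeightedHomogeneous_monomial _ _ _ h

theorem exists_coeffs {ι : Type*} [Fintype ι] (I : Ideal (MvPolynomial σ k)) (g : ι → MvPolynomial σ k) {ν : A}
    {f : MvPolynomial σ k} (hf : f ∈ weightedHomogeneousSubmodule k w ν)
    (h : ∀ d : σ →₀ ℕ, Finsupp.weight w d = ν → ∃ a : ι → MvPolynomial σ k,
      (∀ j, a j ∈ weightedHomogeneousSubmodule k w 0) ∧ monomial d 1 - ∑ j, a j * g j ∈ I) :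
    ∃ a : ι → MvPolynomial σ k, (∀ j, a j ∈ weightedHomogeneousSubmodule k w 0) ∧ f - ∑ j, a j * g j ∈ I := by
  let S : Submodule k (MvPolynomial σ k) :=
    { carrier := {f | ∃ a : ι → MvPolynomial σ k,
        (∀ j, a j ∈ weightedHomogeneousSubmodule k w 0) ∧ f - ∑ j, a j * g j ∈ I}
      zero_mem' := ⟨0, fun j => zero_mem _, by simp⟩
      add_mem' := by
        rintro x y ⟨a, ha, hx⟩ ⟨b, hb, hy⟩
        refine ⟨a + b, fun j => add_mem (ha j) (hb j), ?_⟩
        have := I.add_mem hx hy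
        simpa [add_mul, Finset.sum_add_distrib, add_sub_add_comm] using this
      smul_mem' := by
        rintro c x ⟨a, ha, hx⟩
        refine ⟨c • a, fun j => Submodule.smul_mem _ c (ha j), ?_⟩
        have := Submodule.smul_of_tower_mem I c hx
        simpa [smul_sub, Finset.smul_sum] using this }
  exact homog_mem S hf h

theorem rank_piece_le_one (I : Ideal (MvPolynomial σ k)) (ν : A)
    (h : ∀ d d' : σ →₀ ℕ, Finsupp.weight w d = ν → Finsupp.weight w d' = ν → ∃ r : k,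
      monomial d 1 - r • monomial d' 1 ∈ I ∨ monomial d' 1 - r • monomial d 1 ∈ I) :
    Module.rank k (piece k w I ν) ≤ 1 := by
  classical
  obtain ⟨a, ha⟩ : ∃ a : MvPolynomial σ k ⧸ I, ∀ d, Finsupp.weight w d = ν →
      Ideal.Quotient.mkₐ k I (monomial d 1) ∈ Submodule.span k {a} := by
    by_cases h0 : ∀ d, Finsupp.weight w d = ν → monomial d (1 : k) ∈ I
    · refine ⟨0, fun d hd => ?_⟩
      rw [show Ideal.Quotient.mkₐ k I (monomial d 1) = 0 from Ideal.Quotient.eq_zero_iff_mem.2 (h0 d hd)]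
      exact zero_mem _
    push Not at h0
    obtain ⟨d₀, hd₀, hne⟩ := h0
    refine ⟨Ideal.Quotient.mkₐ k I (monomial d₀ 1), fun d hd => ?_⟩
    obtain ⟨r, hr | hr⟩ := h d d₀ hd hd₀
    · refine Submodule.mem_span_singleton.2 ⟨r, ?_⟩
      rw [← map_smul]
      exact (Ideal.Quotient.eq.2 hr).symm
    · have hr0 : r ≠ 0 := by
        rintro rfl
        rw [zero_smul, sub_zero] at hr
        exact hne hr
      refine Submodule.mem_span_singleton.2 ⟨r⁻¹, ?_⟩
      have : Ideal.Quotient.mkₐ k I (monomial d₀ 1) = r • Ideal.Quotient.mkₐ k I (monomial d 1) := by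
        rw [← map_smul]; exact Ideal.Quotient.eq.2 hr
      rw [this, smul_smul, inv_mul_cancel₀ hr0, one_smul]
  refine (Submodule.rank_mono (t := Submodule.span k {a}) ?_).trans ((rank_span_le _).trans (by simp))
  rintro _ ⟨f, hf, rfl⟩
  exact homog_mem ((Submodule.span k {a}).comap (Ideal.Quotient.mkₐ k I).toLinearMap) hf ha

theorem sub_pow_mem (I : Ideal (MvPolynomial σ k)) {a b : MvPolynomial σ k} (h : a - b ∈ I) (n : ℕ)
    (r : MvPolynomial σ k) : a ^ n * r - b ^ n * r ∈ I := by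
  rw [← sub_mul]
  exact I.mul_mem_right _ (I.mem_of_dvd (sub_dvd_pow_sub_pow a b n) h)

theorem smul_sub_pow_mem (I : Ideal (MvPolynomial σ k)) {a : MvPolynomial σ k} {s : k} (h : C s - a ∈ I) (n : ℕ)
    (r : MvPolynomial σ k) : a ^ n * r - (s ^ n) • r ∈ I := by
  have := I.neg_mem (sub_pow_mem I h n r)
  rwa [neg_sub, ← map_pow, ← smul_eq_C_mul] at this

section Gen
variable {A : Type*} [AddCommGroup A] {w : σ → A} {ι : Type*} [Fintype ι]

/-- The `k`-module of combinations of the monomials `g j` with coefficients of weight zero, modulo `I`. -/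
def genMod (I : Ideal (MvPolynomial σ k)) (w : σ → A) (g : ι → (σ →₀ ℕ)) : Submodule k (MvPolynomial σ k) where
  carrier := {f | ∃ a : ι → MvPolynomial σ k,
    (∀ j, a j ∈ weightedHomogeneousSubmodule k w 0) ∧ f - ∑ j, a j * monomial (g j) 1 ∈ I}
  zero_mem' := ⟨0, fun j => zero_mem _, by simp⟩
  add_mem' := by
    rintro x y ⟨a, ha, hx⟩ ⟨b, hb, hy⟩
    refine ⟨a + b, fun j => add_mem (ha j) (hb j), ?_⟩
    have := I.add_mem hx hy
    simpa [add_mul, Finset.sum_add_distrib, add_sub_add_comm] using this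
  smul_mem' := by
    rintro c x ⟨a, ha, hx⟩
    refine ⟨c • a, fun j => Submodule.smul_mem _ c (ha j), ?_⟩
    have := Submodule.smul_of_tower_mem I c hx
    simpa [smul_sub, Finset.smul_sum] using this

theorem mem_genMod_of_sub {I : Ideal (MvPolynomial σ k)} {g : ι → (σ →₀ ℕ)} {x y : MvPolynomial σ k}
    (h : x - y ∈ I) (hy : y ∈ genMod I w g) : x ∈ genMod I w g := by
  obtain ⟨a, ha, hy⟩ := hy
  exact ⟨a, ha, by simpa using I.add_mem h hy⟩

theorem monomial_mem_genMod {I : Ideal (MvPolynomial σ k)} {g : ι → (σ →₀ ℕ)} {d : σ →₀ ℕ} {ν : A}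
    (hd : Finsupp.weight w d = ν) (j : ι) (hj : g j ≤ d) (hg : Finsupp.weight w (g j) = ν) :
    monomial d 1 ∈ genMod I w g := by
  classical
  refine ⟨Pi.single j (monomial (d - g j) 1), fun l => ?_, ?_⟩
  · rcases eq_or_ne l j with rfl | h
    · rw [Pi.single_eq_same]
      refine monomial_mem_weight ?_ 1
      have h2 := congrArg (Finsupp.weight w) (tsub_add_cancel_of_le hj)
      rw [map_add, hd, hg] at h2
      exact add_eq_right.1 h2
    · rw [Pi.single_eq_of_ne h]; exact zero_mem _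
  · rw [Finset.sum_eq_single j (fun l _ h => by rw [Pi.single_eq_of_ne h, zero_mul])
      (fun h => absurd (Finset.mem_univ j) h), Pi.single_eq_same, monomial_mul, mul_one, tsub_add_cancel_of_le hj, sub_self]
    exact zero_mem _

end Gen

end General

/-- The monomial with exponents `(a, b, c)`. -/
abbrev E3 (a b c : ℕ) : Fin 3 →₀ ℕ := Finsupp.equivFunOnFinite.symm ![a, b, c]

/-- The monomial with exponents `(a, b, c, d, e)`. -/
abbrev E5 (a b c d e : ℕ) : Fin 5 →₀ ℕ := Finsupp.equivFunOnFinite.symm ![a, b, c, d, e]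

theorem monomial3 (d : Fin 3 →₀ ℕ) :
    monomial d (1 : k) = X 0 ^ d 0 * X 1 ^ d 1 * X 2 ^ d 2 := by
  rw [monomial_eq, map_one, one_mul, Finsupp.prod_fintype _ _ (fun i => pow_zero _), Fin.prod_univ_three]

theorem monomial5 (d : Fin 5 →₀ ℕ) :
    monomial d (1 : k) = X 0 ^ d 0 * X 1 ^ d 1 * X 2 ^ d 2 * X 3 ^ d 3 * X 4 ^ d 4 := by
  rw [monomial_eq, map_one, one_mul, Finsupp.prod_fintype _ _ (fun i => pow_zero _), Fin.prod_univ_five]

theorem E3_mem {a b c : ℕ} {ν : ℤ × ZMod m} (h : Finsupp.weight (wt3 p q m) (E3 a b c) = ν) :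
    (X 0 ^ a * X 1 ^ b * X 2 ^ c : MvPolynomial (Fin 3) k) ∈ weightedHomogeneousSubmodule k (wt3 p q m) ν := by
  have := monomial_mem_weight (k := k) h 1
  rw [monomial3] at this
  simpa using this

theorem E5_mem {a b c d e : ℕ} {ν : ℤ × ZMod m} (h : Finsupp.weight (wt5 p q m) (E5 a b c d e) = ν) :
    (X 0 ^ a * X 1 ^ b * X 2 ^ c * X 3 ^ d * X 4 ^ e : MvPolynomial (Fin 5) k) ∈
      weightedHomogeneousSubmodule k (wt5 p q m) ν := by
  have := monomial_mem_weight (k := k) h 1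
  rw [monomial5] at this
  simpa using this

end Groth.L13.InvHilb
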